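import Cfsg.Agent.H216.Pi.Base
import Cfsg.Agent.H442.Pi.PiD
import Cfsg.Agent.H326.PiC.Main
import Cfsg.Agent.S2119
import Cfsg.Agent.LFourA.AltPsiAut

/-!
# S4324, PI-ALT: the row of the alternating groups (helper120)

`rowP_alt`
-/

set_option autoImplicit false
set_option linter.unusedSectionVars false

namespace Cfsg.Agent.H120.Pi.Alt

open Equiv Equiv.Perm Subgroup Cfsg Cfsg.Agent.H216.Pi

variable {n : ℕ}

theorem ap_inv (X : Perm (Fin n)) (i : Fin n) : X (X⁻¹ i) = i := X.apply_symm_apply i

theorem inv_ap (X : Perm (Fin n)) (i : Fin n) : X⁻¹ (X i) = i := X.symm_apply_apply i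

/-- conjugation by permutations -/
def cS : Perm (Fin n) →* MulAut (alternatingGroup (Fin n)) := MulAut.conjNormal

theorem cS_apply (σ : Perm (Fin n)) (x : alternatingGroup (Fin n)) :
    ((cS σ x : alternatingGroup (Fin n)) : Perm (Fin n)) = σ * x * σ⁻¹ := MulAut.conjNormal_apply σ x

theorem cS_inj (hn : 4 ≤ n) : Function.Injective (cS (n := n)) := by
  obtain ⟨m, rfl⟩ : ∃ m, n = m + 2 := ⟨n - 2, by omega⟩
  intro s t h
  have hs : ∀ x : alternatingGroup (Fin (m + 2)), (s * x * s⁻¹ : Perm (Fin (m + 2))) = t * x * t⁻¹ := by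
    intro x
    have := DFunLike.congr_fun h x
    have h2 := congrArg Subtype.val this
    rwa [cS_apply, cS_apply] at h2
  exact Cfsg.Agent.StandardComponent.AltAut.conj_unique (m := m) (by omega) hs

theorem cS_coe (g : alternatingGroup (Fin n)) : cS (g : Perm (Fin n)) = MulAut.conj g := by
  ext1 x
  apply Subtype.ext
  rw [cS_apply]
  rfl

theorem cj_cS (X : Perm (Fin n)) (g : alternatingGroup (Fin n)) : cj (cS X) g = cS ((g : Perm (Fin n)) * X * (g : Perm (Fin n))⁻¹) := by
  unfold cj
  rw [map_mul, map_mul, map_inv, cS_coe]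

theorem inC_comm (X : Perm (Fin n)) {g : Perm (Fin n)} (hg : sign g = 1) :
    H216.Pi.InC 2 (cS X) (cS (g * (X * g⁻¹ * X⁻¹))) := by
  have h1 := H216.Pi.InC.commutator (cS X) ⟨g, mem_alternatingGroup.2 hg⟩
  rw [← cS_coe] at h1
  convert h1 using 2
  change _ = ((⟨g, mem_alternatingGroup.2 hg⟩ * cS X ⟨g, mem_alternatingGroup.2 hg⟩⁻¹ : alternatingGroup (Fin n)) : Perm (Fin n))
  rw [Subgroup.coe_mul, cS_apply]
  rfl

theorem inC_conj {k : ℕ} {x : MulAut (alternatingGroup (Fin n))} {τ : Perm (Fin n)} (h : H216.Pi.InC k x (cS τ))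
    (g : alternatingGroup (Fin n)) : H216.Pi.InC k x (cS ((g : Perm (Fin n)) * τ * (g : Perm (Fin n))⁻¹)) := by
  have h1 := h.cj g
  rwa [cj_cS] at h1

/-- all three-cycles -/
theorem inC_three (hn : 5 ≤ n) {k : ℕ} {x : MulAut (alternatingGroup (Fin n))} {τ τ' : Perm (Fin n)}
    (hτ : τ.IsThreeCycle) (hτ' : τ'.IsThreeCycle) (h : H216.Pi.InC k x (cS τ)) : H216.Pi.InC k x (cS τ') := by
  have h1 : IsConj (⟨τ, hτ.mem_alternatingGroup⟩ : alternatingGroup (Fin n)) ⟨τ', hτ'.mem_alternatingGroup⟩ :=
    alternatingGroup.isThreeCycle_isConj (by rw [Nat.card_eq_fintype_card, Fintype.card_fin]; exact hn) hτ hτ'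
  obtain ⟨g, hg⟩ := isConj_iff.1 h1
  have h2 := inC_conj h g
  have h3 := congrArg Subtype.val hg
  have h4 : (g : Perm (Fin n)) * τ * (g : Perm (Fin n))⁻¹ = τ' := h3
  rwa [h4] at h2

theorem three_of {a b c : Fin n} (h1 : a ≠ b) (h2 : b ≠ c) (h3 : a ≠ c) : (swap a b * swap b c).IsThreeCycle := by
  rw [swap_comm a b]
  exact isThreeCycle_swap_mul_swap_same h1.symm h2 h3

/-- cycles of odd length -/
theorem inC_list {k : ℕ} {x : MulAut (alternatingGroup (Fin n))}
    (h : ∀ τ : Perm (Fin n), τ.IsThreeCycle → H216.Pi.InC k x (cS τ)) (d : ℕ) :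
    ∀ l : List (Fin n), l.Nodup → l.length = 2 * d + 1 → H216.Pi.InC (d * k) x (cS l.formPerm) := by
  induction d with
  | zero =>
    intro l _ hl
    obtain ⟨a, rfl⟩ := List.length_eq_one_iff.1 hl
    rw [List.formPerm_singleton, map_one]
    exact ⟨fun i => 1, one_mem _⟩
  | succ d ih =>
    intro l hl hlen
    match l, hl, hlen with
    | [], _, hlen => simp at hlen
    | [a], _, hlen => simp at hlen
    | [a, b], _, hlen => simp at hlen
    | a :: b :: c :: l', hl, hlen =>
      have h1 : (c :: l').length = 2 * d + 1 := by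
        simp only [List.length_cons] at hlen ⊢
        omega
      have h2 : (c :: l').Nodup := (List.nodup_cons.1 (List.nodup_cons.1 hl).2).2
      have h3 := ih _ h2 h1
      have hab : a ≠ b := by rintro rfl; simp at hl
      have hbc : b ≠ c := by rintro rfl; simp at hl
      have hac : a ≠ c := by rintro rfl; simp at hl
      have h4 := h _ (three_of hab hbc hac)
      have h5 := h4.mul h3
      rw [List.formPerm_cons_cons, List.formPerm_cons_cons, ← mul_assoc, map_mul]
      have h6 : (d + 1) * k = k + d * k := by ring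
      rw [h6]
      exact h5

/-- if the three-cycles are generated by two conjugates then elements of order `s` are generated by `s - 1` -/
theorem false_of_three (hn : 5 ≤ n) {s : ℕ} (hs : s.Prime) (hs3 : 3 ≤ s) (hsn : s ≤ n)
    {x : MulAut (alternatingGroup (Fin n))} (hF : FC s (mm s) x) {τ : Perm (Fin n)} (hτ : τ.IsThreeCycle)
    (h : H216.Pi.InC 2 x (cS τ)) : False := by
  obtain ⟨d, hd⟩ : ∃ d, s = 2 * d + 1 := by
    rcases hs.eq_two_or_odd' with h1 | h1
    · omega
    · exact h1
  set l : List (Fin n) := (List.finRange n).take s with hl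
  have h1 : l.Nodup := (List.take_sublist _ _).nodup (List.nodup_finRange n)
  have h2 : l.length = s := by rw [hl, List.length_take, List.length_finRange]; omega
  have h3 := inC_list (fun τ' hτ' => inC_three hn hτ hτ' h) d l h1 (by rw [h2, hd])
  have h4 : d * 2 ≤ mm s := by
    have := sub_one_le_mm hs3
    omega
  have h5 := hF _ (h3.mono h4)
  apply h5
  rw [orderOf_injective _ (cS_inj (by omega))]
  rw [(List.isCycle_formPerm h1 (by omega)).orderOf, List.support_formPerm_of_nodup _ h1]
  · rw [List.toFinset_card_of_nodup h1, h2]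
  · rintro a ha
    rw [ha, List.length_singleton] at h2
    omega

/-- a cycle of length at least four -/
theorem false_of_four (hn : 5 ≤ n) {s : ℕ} (hs : s.Prime) (hs3 : 3 ≤ s) (hsn : s ≤ n) {X : Perm (Fin n)}
    (hF : FC s (mm s) (cS X)) {a : Fin n} (h1 : X a ≠ a) (h2 : X (X a) ≠ a) (h3 : X (X (X a)) ≠ a) : False := by
  have e1 : X (X a) ≠ X a := fun h => h1 (X.injective h)
  have e2 : X (X (X a)) ≠ X (X a) := fun h => e1 (X.injective h)
  have e3 : X (X (X a)) ≠ X a := fun h => h2 (X.injective h)
  set b := X a with hb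
  set c := X b with hc
  set d := X c with hd
  have hs1 : sign (swap a b * swap b c) = 1 := by
    rw [map_mul, sign_swap h1.symm, sign_swap e1.symm]; rfl
  have h := inC_comm X hs1
  have h4 : X * (swap a b * swap b c)⁻¹ * X⁻¹ = swap c d * swap b c := by
    have h5 : X * (swap a b * swap b c)⁻¹ * X⁻¹ = (X * swap b c * X⁻¹) * (X * swap a b * X⁻¹) := by
      rw [mul_inv_rev, swap_inv, swap_inv]; group
    rw [h5, ← swap_apply_apply, ← swap_apply_apply]
  have h5 : swap a b * swap b c * (swap c d * swap b c) = swap a b * swap b d := by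
    have h6 : swap b c * swap c d * swap b c = swap b d := by
      have h7 := swap_mul_swap_mul_swap (x := d) (y := c) (z := b) e2 e3
      rw [swap_comm c b, swap_comm d c] at h7
      exact h7
    rw [← h6]; group
  rw [h4, h5] at h
  exact false_of_three hn hs hs3 hsn hF (three_of h1.symm e3.symm h3.symm) h

/-! ### the pointwise stabilisers -/

/-- the pointwise stabiliser of `B` -/
def stab (B : Finset (Fin n)) : Subgroup (alternatingGroup (Fin n)) where
  carrier := {g | ∀ i ∈ B, (g : Perm (Fin n)) i = i}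
  one_mem' := fun _ _ => rfl
  mul_mem' := by
    intro g h hg hh i hi
    rw [Subgroup.coe_mul, Perm.mul_apply, hh i hi, hg i hi]
  inv_mem' := by
    intro g hg i hi
    rw [Subgroup.coe_inv, Perm.inv_eq_iff_eq, hg i hi]

theorem mem_stab {B : Finset (Fin n)} {g : alternatingGroup (Fin n)} :
    g ∈ stab B ↔ ∀ i ∈ B, (g : Perm (Fin n)) i = i := Iff.rfl

/-- the alternating group on the complement -/
def ext (B : Finset (Fin n)) : alternatingGroup {i : Fin n // i ∉ B} →* alternatingGroup (Fin n) where
  toFun g := ⟨ofSubtype (g : Perm {i : Fin n // i ∉ B}), by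
    rw [mem_alternatingGroup, sign_ofSubtype]
    exact mem_alternatingGroup.1 g.2⟩
  map_one' := by
    apply Subtype.ext
    exact map_one ofSubtype
  map_mul' g h := by
    apply Subtype.ext
    exact map_mul ofSubtype (g : Perm {i : Fin n // i ∉ B}) h

theorem ext_coe (B : Finset (Fin n)) (g : alternatingGroup {i : Fin n // i ∉ B}) :
    (ext B g : Perm (Fin n)) = ofSubtype (g : Perm {i : Fin n // i ∉ B}) := rfl

theorem ext_inj (B : Finset (Fin n)) : Function.Injective (ext B) := by
  intro g h hgh
  have := congrArg Subtype.val hgh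
  rw [ext_coe, ext_coe] at this
  exact Subtype.ext (ofSubtype_injective this)

theorem ext_range (B : Finset (Fin n)) : (ext B).range = stab B := by
  ext g
  constructor
  · rintro ⟨h, rfl⟩
    intro i hi
    rw [ext_coe, ofSubtype_apply_of_not_mem _ (by simpa using hi)]
  · intro hg
    have h1 : ∀ x, x ∉ B ↔ (g : Perm (Fin n)) x ∉ B := by
      intro x
      rw [not_iff_not]
      constructor
      · intro hx
        rwa [hg x hx]
      · intro hx
        have h2 := hg _ hx
        have h3 : (g : Perm (Fin n)) x = x := (g : Perm (Fin n)).injective h2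
        rwa [h3] at hx
    have h2 : ofSubtype ((g : Perm (Fin n)).subtypePerm (p := fun x => x ∉ B) (fun x => (h1 x).symm)) = (g : Perm (Fin n)) := by
      apply ofSubtype_subtypePerm
      intro x hx hxB
      exact hx (hg x hxB)
    refine ⟨⟨(g : Perm (Fin n)).subtypePerm (p := fun x => x ∉ B) (fun x => (h1 x).symm), ?_⟩, ?_⟩
    · rw [mem_alternatingGroup, ← sign_ofSubtype, h2]
      exact mem_alternatingGroup.1 g.2
    · apply Subtype.ext
      exact h2

theorem card_compl (B : Finset (Fin n)) : Nat.card {i : Fin n // i ∉ B} = n - B.card := by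
  rw [Nat.card_eq_fintype_card, Fintype.card_subtype_compl, Fintype.card_fin, Fintype.card_coe]

theorem card_alt {α : Type*} [Fintype α] [DecidableEq α] {s m : ℕ} (hs : s.Prime) (hs3 : 3 ≤ s)
    (hm : Nat.card α = m) (hsm : s ≤ m) : s ∣ Nat.card (alternatingGroup α) := by
  have hnt : Nontrivial α := by
    rw [← Fintype.one_lt_card_iff_nontrivial, ← Nat.card_eq_fintype_card]
    omega
  have h1 := two_mul_nat_card_alternatingGroup (α := α)
  rw [Nat.card_perm, hm] at h1
  have h2 : s ∣ m.factorial := (hs.dvd_factorial).2 hsm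
  rw [← h1] at h2
  rcases (hs.dvd_mul).1 h2 with h3 | h3
  · have := Nat.le_of_dvd (by norm_num) h3
    omega
  · exact h3

theorem simple_stab {B : Finset (Fin n)} (h5 : 5 ≤ n - B.card) : IsSimpleGroup (stab B) := by
  have h1 : IsSimpleGroup (alternatingGroup {i : Fin n // i ∉ B}) :=
    alternatingGroup.isSimpleGroup (by rw [card_compl]; exact h5)
  rw [← ext_range]
  exact (MulEquiv.isSimpleGroup_congr (MonoidHom.ofInjective (ext_inj B))).1 h1

theorem dvd_stab {B : Finset (Fin n)} {s : ℕ} (hs : s.Prime) (hs3 : 3 ≤ s) (hsn : s ≤ n - B.card) :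
    s ∣ Nat.card (stab B) := by
  rw [← ext_range, ← Nat.card_congr (MonoidHom.ofInjective (ext_inj B)).toEquiv]
  exact card_alt hs hs3 (card_compl B) hsn

theorem exists_two {C : Finset (Fin n)} (h : 2 ≤ n - C.card) : ∃ k l : Fin n, k ∉ C ∧ l ∉ C ∧ k ≠ l := by
  have h1 : 1 < Cᶜ.card := by
    rw [Finset.card_compl, Fintype.card_fin]; omega
  obtain ⟨k, hk, l, hl, hkl⟩ := Finset.one_lt_card.1 h1
  exact ⟨k, l, Finset.mem_compl.1 hk, Finset.mem_compl.1 hl, hkl⟩

theorem swap3_apply {a b c : Fin n} (h1 : a ≠ b) (h2 : b ≠ c) (h3 : a ≠ c) : (swap a b * swap b c) a = b := by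
  rw [Perm.mul_apply, swap_apply_of_ne_of_ne h1 h3, swap_apply_left]

/-- an invariant set whose complement is moved -/
theorem false_of_PC {s : ℕ} (hs : s.Prime) (hs3 : 3 ≤ s) {X : Perm (Fin n)} (h : PC s (cS X)) (B : Finset (Fin n))
    (hB : B.Nonempty) (hX : ∀ i ∈ B, X i ∈ B) (h5 : 5 ≤ n - B.card) (hsn : s ≤ n - B.card) {j : Fin n}
    (hj : j ∉ B) (hXj : X j ≠ j) : False := by
  have hinv : ∀ i, X i ∈ B → i ∈ B := by
    have hmap : B.image X = B := by
      refine Finset.eq_of_subset_of_card_le ?_ ?_
      · intro y hy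
        obtain ⟨x, hx, rfl⟩ := Finset.mem_image.1 hy
        exact hX x hx
      · rw [Finset.card_image_of_injective _ X.injective]
    intro i hi
    rw [← hmap, Finset.mem_image] at hi
    obtain ⟨y, hy, hyx⟩ := hi
    rwa [← X.injective hyx]
  have hXjB : X j ∉ B := fun h => hj (hinv j h)
  have hM : stab B ≠ ⊤ := by
    obtain ⟨i, hi⟩ := hB
    intro htop
    have hij : i ≠ j := fun h => hj (h ▸ hi)
    have hiX : i ≠ X j := fun h => hXjB (h ▸ hi)
    have h1 : (⟨swap i j * swap j (X j), (three_of hij hXj.symm hiX).mem_alternatingGroup⟩ :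
        alternatingGroup (Fin n)) ∈ stab B := by rw [htop]; trivial
    have h2 := h1 i hi
    change (swap i j * swap j (X j)) i = i at h2
    rw [swap3_apply hij hXj.symm hiX] at h2
    exact hij h2.symm
  have hxM : ∀ m ∈ stab B, cS X m ∈ stab B := by
    intro m hm i hi
    rw [cS_apply, Perm.mul_apply, Perm.mul_apply]
    have h1 : X⁻¹ i ∈ B := hinv _ (by rwa [ap_inv])
    rw [hm _ h1, ap_inv]
  obtain ⟨k, l, hk, hl, hkl⟩ := exists_two (C := insert j (insert (X j) B)) (by
    have h1 := Finset.card_insert_le j (insert (X j) B)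
    have h2 := Finset.card_insert_le (X j) B
    omega)
  simp only [Finset.mem_insert, not_or] at hk hl
  have hjk : j ≠ k := fun h => hk.1 h.symm
  have hjl : j ≠ l := fun h => hl.1 h.symm
  set m : alternatingGroup (Fin n) := ⟨swap j k * swap k l, (three_of hjk hkl hjl).mem_alternatingGroup⟩ with hm
  have hmM : m ∈ stab B := by
    intro i hi
    have h1 : i ≠ j := fun h => hj (h ▸ hi)
    have h2 : i ≠ k := fun h => hk.2.2 (h ▸ hi)
    have h3 : i ≠ l := fun h => hl.2.2 (h ▸ hi)
    change (swap j k * swap k l) i = i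
    rw [Perm.mul_apply, swap_apply_of_ne_of_ne h2 h3, swap_apply_of_ne_of_ne h1 h2]
  have key := h.eq_of_simple hs hM hxM (simple_stab h5) (dvd_stab hs hs3 hsn) hmM
  have h1 : X * (swap j k * swap k l) * X⁻¹ = swap j k * swap k l := by
    have h2 := congrArg Subtype.val key
    rwa [cS_apply] at h2
  have h2 : (X * (swap j k * swap k l) * X⁻¹) (X j) = X k := by
    rw [Perm.mul_apply, Perm.mul_apply, inv_ap, swap3_apply hjk hkl hjl]
  have h3 : (swap j k * swap k l) (X j) = X j := by
    rw [Perm.mul_apply, swap_apply_of_ne_of_ne (Ne.symm hk.2.1) (Ne.symm hl.2.1),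
      swap_apply_of_ne_of_ne hXj (Ne.symm hk.2.1)]
  rw [h1, h3] at h2
  exact hjk (X.injective h2)

/-! ### involutions without fixed points -/

theorem false_of_inv {s : ℕ} (hs : s = 3) (hn : n = 6) {X : Perm (Fin n)} (hX : ∀ i, X (X i) = i)
    (hf : ∀ i, X i ≠ i) (hF : FC s (mm s) (cS X)) : False := by
  subst hs
  have hi : X⁻¹ = X := by
    ext1 i
    rw [Perm.inv_eq_iff_eq, hX]
  have h0 : 0 < n := by omega
  set a : Fin n := ⟨0, h0⟩ with ha
  obtain ⟨b, -, hb, -, -⟩ := exists_two (C := {a, X a}) (by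
    have := Finset.card_le_two (a := a) (b := X a)
    omega)
  obtain ⟨c, -, hc, -, -⟩ := exists_two (C := {a, X a, b, X b}) (by
    have := Finset.card_le_four (a := a) (b := X a) (c := b) (d := X b)
    omega)
  simp only [Finset.mem_insert, Finset.mem_singleton, not_or] at hb hc
  have hab : a ≠ b := fun h => hb.1 h.symm
  have hac : a ≠ c := fun h => hc.1 h.symm
  have hbc : b ≠ c := fun h => hc.2.2.1 h.symm
  have hXbc : X b ≠ c := fun h => hc.2.2.2 h.symm
  have hXab : X a ≠ b := fun h => hb.2 h.symm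
  have hXac : X a ≠ c := fun h => hc.2.1 h.symm
  have hXba : X b ≠ a := fun h => hb.2 (by rw [← h, hX])
  have hXca : X c ≠ a := fun h => hc.2.1 (by rw [← h, hX])
  have hXcb : X c ≠ b := fun h => hc.2.2.2 (by rw [← h, hX])
  have h3 := three_of hab hbc hac
  set g := swap a b * swap b c with hg
  have hgs : sign g = 1 := mem_alternatingGroup.1 h3.mem_alternatingGroup
  have h := inC_comm X hgs
  have hfix : ∀ z, z ≠ a → z ≠ b → z ≠ c → g z = z := by
    intro z h1 h2 h3
    rw [hg, Perm.mul_apply, swap_apply_of_ne_of_ne h2 h3, swap_apply_of_ne_of_ne h1 h2]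
  have hd : Perm.Disjoint g (X * g⁻¹ * X⁻¹) := by
    intro z
    by_cases hz : z = a ∨ z = b ∨ z = c
    · right
      rw [Perm.mul_apply, Perm.mul_apply, hi]
      have h4 : g⁻¹ (X z) = X z := by
        rw [Perm.inv_eq_iff_eq]
        symm
        rcases hz with rfl | rfl | rfl
        · exact hfix _ (hf _) hXab hXac
        · exact hfix _ hXba (hf _) hXbc
        · exact hfix _ hXca hXcb (hf _)
      rw [h4, hX]
    · left
      simp only [not_or] at hz
      exact hfix z hz.1 hz.2.1 hz.2.2
  have h4 := hF _ (h.mono (le_trans (by norm_num) (mm_ge 3)))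
  apply h4
  rw [orderOf_injective _ (cS_inj (by omega)), hd.orderOf, h3.orderOf]
  exact Nat.dvd_lcm_left _ _

/-! ### the case `n < 2 s` -/

theorem cyc_sylow {s : ℕ} (hs : s.Prime) (hs3 : 3 ≤ s) (hsn : s ≤ n) (h2 : n < 2 * s)
    (P : Sylow s (alternatingGroup (Fin n))) : IsCyclic (P : Subgroup (alternatingGroup (Fin n))) := by
  have hF : Fact s.Prime := ⟨hs⟩
  have hnt : Nontrivial (Fin n) := by
    rw [Fin.nontrivial_iff_two_le]; omega
  have hc := two_mul_nat_card_alternatingGroup (α := Fin n)
  rw [Nat.card_perm, Nat.card_eq_fintype_card (α := Fin n), Fintype.card_fin] at hc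
  have h3 : ¬ s ^ 2 ∣ Nat.card (alternatingGroup (Fin n)) := by
    intro h
    have h4 : s ^ 2 ∣ n.factorial := by
      rw [← hc]
      exact h.mul_left _
    have hlog : Nat.log s n < 2 := by
      apply Nat.log_lt_of_lt_pow (by omega)
      nlinarith
    rw [hs.pow_dvd_factorial_iff hlog] at h4
    have h5 : n / s < 2 := Nat.div_lt_of_lt_mul (by omega)
    simp at h4
    omega
  have h4 : (Nat.card (alternatingGroup (Fin n))).factorization s < 2 := by
    by_contra h5
    exact h3 ((pow_dvd_pow s (not_lt.1 h5)).trans (Nat.ordProj_dvd _ _))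
  have h5 := P.card_eq_multiplicity
  have h6 : Nat.card (P : Subgroup (alternatingGroup (Fin n))) = 1 ∨ Nat.card (P : Subgroup (alternatingGroup (Fin n))) = s := by
    interval_cases hk : (Nat.card (alternatingGroup (Fin n))).factorization s
    · left; rw [h5]; rfl
    · right; rw [h5, pow_one]
  rcases h6 with h6 | h6
  · have : Subsingleton (P : Subgroup (alternatingGroup (Fin n))) := (Nat.card_eq_one_iff_unique.1 h6).1
    infer_instance
  · exact isCyclic_of_prime_card h6

/-! ### degree six -/

section Six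

open Cfsg.Agent.LFourA.AltPsiAut

theorem cent_three : ∀ σ : Perm (Fin 6), σ * (swap 0 1 * swap 1 2) = (swap 0 1 * swap 1 2) * σ → sign σ = 1 →
    ∃ i : Fin 3, ∃ j : Fin 3, σ = (swap 0 1 * swap 1 2) ^ (i : ℕ) * (swap 3 4 * swap 4 5) ^ (j : ℕ) := by
  decide +kernel

theorem inn_le_NE (k : A6) : MulAut.conj k ∈ NE := by
  intro x hx
  rw [MulAut.conj_apply]
  exact isThreeCycle_conj.2 hx

theorem exotic {s : ℕ} (hs : s = 3) {x : MulAut A6} (hx : (orderOf x).Prime) (hxN : x ∉ NE) (hF : FC s (mm s) x) :
    False := by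
  subst hs
  have hsi : IsSimpleGroup A6 := alternatingGroup.isSimpleGroup card6
  have hna : ¬ IsMulCommutative A6 := by
    intro h
    have h1 := (IsMulCommutative.is_comm (M := A6)).comm u3 sa
    have h2 := congrArg Subtype.val h1
    revert h2
    decide
  have hinjc : Function.Injective (MulAut.conj : A6 →* MulAut A6) := by
    intro a b h
    rw [← cS_coe, ← cS_coe] at h
    exact Subtype.ext (cS_inj (by norm_num) h)
  have hu3 : orderOf (MulAut.conj u3) = 3 := by
    rw [orderOf_injective _ hinjc, ← Subgroup.orderOf_coe]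
    exact u3_three.orderOf
  set L : Subgroup (MulAut A6) := closure ({x} ∪ Set.range (MulAut.conj : A6 → MulAut A6)) with hL
  have hinnL : ∀ k : A6, MulAut.conj k ∈ L := fun k => subset_closure (Or.inr ⟨k, rfl⟩)
  -- the elements of `L` preserving the three-cycles are inner
  have hinn : ∀ y ∈ L, y ∈ NE → ∃ k : A6, MulAut.conj k = y := by
    intro y hy hyN
    have hnorm : (MulAut.conj : A6 →* MulAut A6).range.Normal := by
      refine ⟨?_⟩
      rintro _ ⟨k, rfl⟩ g
      refine ⟨g k, ?_⟩
      ext1 a
      simp [MulAut.mul_apply]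
    have hle : L ≤ (MulAut.conj : A6 →* MulAut A6).range ⊔ zpowers x := by
      rw [hL, closure_le]
      rintro a (ha | ⟨k, rfl⟩)
      · rw [Set.mem_singleton_iff.1 ha]
        exact (le_sup_right : zpowers x ≤ _) (mem_zpowers x)
      · exact (le_sup_left : (MulAut.conj : A6 →* MulAut A6).range ≤ _) ⟨k, rfl⟩
    obtain ⟨a, ⟨k, rfl⟩, b, hb, hab⟩ := Subgroup.mem_sup_of_normal_left.1 (hle hy)
    have hbN : b ∈ NE := by
      rw [← hab] at hyN
      exact (NE.mul_mem_cancel_left (inn_le_NE k)).1 hyN
    by_cases hb1 : b = 1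
    · exact ⟨k, by rw [← hab, hb1, mul_one]⟩
    · exfalso
      apply hxN
      have hF : Fact (orderOf x).Prime := ⟨hx⟩
      have h1 : zpowers b ≤ zpowers x := by rw [zpowers_le]; exact hb
      have h2 : Nat.card (zpowers b) = Nat.card (zpowers x) := by
        rw [Nat.card_zpowers, Nat.card_zpowers]
        have h3 : orderOf b ∣ orderOf x := orderOf_dvd_of_mem_zpowers hb
        rcases (Nat.dvd_prime hx).1 h3 with h4 | h4
        · exact absurd (orderOf_eq_one_iff.1 h4) hb1
        · exact h4
      have h3 : zpowers b = zpowers x := Subgroup.eq_of_le_of_card_ge h1 h2.ge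
      have h4 : zpowers b ≤ NE := by rw [zpowers_le]; exact hbN
      exact h4 (by rw [h3]; exact mem_zpowers x)
  refine Cfsg.Agent.H442.Pi.false_of_centralizer (m := mm 3) hna Nat.prime_three hx (g := MulAut.conj u3) (hinnL _)
    (by rw [hu3]) ?_ hF
  -- the centraliser
  have hsub : (centralizer ({MulAut.conj u3} : Set (MulAut A6)) ⊓ L : Subgroup (MulAut A6)) ≤
      (centralizer ({u3} : Set A6)).map (MulAut.conj : A6 →* MulAut A6) := by
    rintro y ⟨hy1, hy2⟩
    have h1 : y u3 = u3 := by
      have h2 := mem_centralizer_singleton_iff.1 hy1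
      have h3 : MulAut.conj (y u3) = y * MulAut.conj u3 * y⁻¹ := by
        ext1 a
        simp [MulAut.mul_apply]
      rw [h2, mul_inv_cancel_right] at h3
      exact hinjc h3
    obtain ⟨k, rfl⟩ := hinn y hy2 (mem_NE_iff.2 (by rw [h1]; exact u3_three))
    refine ⟨k, ?_, rfl⟩
    rw [MulAut.conj_apply] at h1
    exact mem_centralizer_singleton_iff.2 (mul_inv_eq_iff_eq_mul.1 h1)
  have hc1 : Nat.card (centralizer ({MulAut.conj u3} : Set (MulAut A6)) ⊓ L : Subgroup (MulAut A6)) ≤
      Nat.card (centralizer ({u3} : Set A6)) := by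
    refine (Subgroup.card_le_of_le hsub).trans ?_
    rw [Subgroup.card_map_of_injective hinjc]
  have hc2 : Nat.card (centralizer ({u3} : Set A6)) ≤ 9 := by
    have h9 : Nat.card (Fin 3 × Fin 3) = 9 := by simp
    rw [← h9]
    have hch : ∀ a : centralizer ({u3} : Set A6), ∃ p : Fin 3 × Fin 3, ((a : A6) : Perm (Fin 6)) =
        (swap 0 1 * swap 1 2) ^ (p.1 : ℕ) * (swap 3 4 * swap 4 5) ^ (p.2 : ℕ) := by
      rintro ⟨a, ha⟩
      have h1 := mem_centralizer_singleton_iff.1 ha
      obtain ⟨i, j, h2⟩ := cent_three (a : Perm (Fin 6)) (congrArg Subtype.val h1) (mem_alternatingGroup.1 a.2)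
      exact ⟨(i, j), h2⟩
    choose f hf using hch
    refine Nat.card_le_card_of_injective f ?_
    intro a b h
    have h1 := hf a
    rw [h, ← hf b] at h1
    exact Subtype.ext (Subtype.ext h1)
  exact (hc1.trans hc2).trans ((by norm_num : 9 ≤ 11 + 1).trans (Nat.add_le_add_right (mm_ge 3) 1))

end Six

/-! ### the row -/

theorem rowP_alt (n : ℕ) (hn : 5 ≤ n) : RowP (alternatingGroup (Fin n)) := by
  intro s r x hs hr hr3 hrs hrK hsK hx hxs hxr hPC hFC
  have hsi : IsSimpleGroup (alternatingGroup (Fin n)) :=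
    alternatingGroup.isSimpleGroup (by rw [Nat.card_eq_fintype_card, Fintype.card_fin]; exact hn)
  have hna : ¬ IsMulCommutative (alternatingGroup (Fin n)) := by
    intro h
    obtain ⟨a, b, -, -, hab⟩ := exists_two (n := n) (C := ∅) (by rw [Finset.card_empty]; omega)
    obtain ⟨c, d, hc, hd, hcd⟩ := exists_two (n := n) (C := {a, b}) (by
      have := Finset.card_le_two (a := a) (b := b)
      omega)
    simp only [Finset.mem_insert, Finset.mem_singleton, not_or] at hc hd
    have hac : a ≠ c := fun h => hc.1 h.symm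
    have hbc : b ≠ c := fun h => hc.2 h.symm
    have had : a ≠ d := fun h => hd.1 h.symm
    have hbd : b ≠ d := fun h => hd.2 h.symm
    have h1 := (IsMulCommutative.is_comm (M := alternatingGroup (Fin n))).comm
      ⟨swap a b * swap b c, (three_of hab hbc hac).mem_alternatingGroup⟩
      ⟨swap b c * swap c d, (three_of hbc hcd hbd).mem_alternatingGroup⟩
    have h2 : swap a b * swap b c * (swap b c * swap c d) = swap b c * swap c d * (swap a b * swap b c) :=
      congrArg Subtype.val h1
    have h3 : (swap a b * swap b c * (swap b c * swap c d)) a = b := by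
      rw [Perm.mul_apply, Perm.mul_apply (swap b c), swap_apply_of_ne_of_ne hac had,
        swap_apply_of_ne_of_ne hab hac, swap3_apply hab hbc hac]
    have h4 : (swap b c * swap c d * (swap a b * swap b c)) a = c := by
      rw [Perm.mul_apply, swap3_apply hab hbc hac, swap3_apply hbc hcd hbd]
    rw [h2, h4] at h3
    exact hbc h3.symm
  have hsn : s ≤ n := by
    have h1 : s ∣ n.factorial := by
      have hnt : Nontrivial (Fin n) := by
        rw [Fin.nontrivial_iff_two_le]; omega
      have hc := two_mul_nat_card_alternatingGroup (α := Fin n)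
      rw [Nat.card_perm, Nat.card_eq_fintype_card (α := Fin n), Fintype.card_fin] at hc
      rw [← hc]
      exact hsK.mul_left _
    exact (hs.dvd_factorial).1 h1
  have hcn : Nat.card (Fin n) = n := by rw [Nat.card_eq_fintype_card, Fintype.card_fin]
  have hrs' : r = s := by
    rcases hrK with h | h
    · exact h
    · exact absurd (card_alt hr hr3 hcn (hrs.trans hsn)) h
  subst hrs'
  by_cases h2s : n < 2 * r
  · exact Cfsg.Agent.H326.PiC.false_of_cyclic hna hs hsK (cyc_sylow hs hr3 hsn h2s) hx hxs (sub_one_le_mm hr3) hFC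
  -- the automorphism is induced by a permutation
  have key : ∀ X : Perm (Fin n), x = cS X → False := by
    rintro X rfl
    have ho : orderOf X = orderOf (cS X) := (orderOf_injective _ (cS_inj (by omega)) X).symm
    rw [← ho] at hx hxs hxr
    have hX1 : X ≠ 1 := by
      rintro rfl
      rw [orderOf_one] at hx
      exact Nat.not_prime_one hx
    obtain ⟨j, hj⟩ : ∃ j, X j ≠ j := by
      by_contra h
      push Not at h
      exact hX1 (Perm.ext h)
    -- a fixed point
    by_cases hfix : ∃ i, X i = i
    · obtain ⟨i, hi⟩ := hfix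
      refine false_of_PC hs hr3 hPC {i} ⟨i, by simp⟩ ?_ ?_ ?_ (j := j) ?_ hj
      · intro a ha
        rw [Finset.mem_singleton] at ha ⊢
        rw [ha, hi]
      · rw [Finset.card_singleton]
        omega
      · rw [Finset.card_singleton]
        omega
      · rw [Finset.mem_singleton]
        rintro rfl
        exact hj hi
    push Not at hfix
    by_cases h2 : ∀ a, X (X a) = a
    · -- involutions
      by_cases h6 : n = 6
      · exact false_of_inv (by omega) h6 h2 hfix hFC
      have hc : ({j, X j} : Finset (Fin n)).card ≤ 2 := Finset.card_le_two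
      obtain ⟨k, -, hk, -, -⟩ := exists_two (n := n) (C := {j, X j}) (by omega)
      refine false_of_PC hs hr3 hPC {j, X j} ⟨j, by simp⟩ ?_ ?_ ?_ (j := k) hk (hfix k)
      · intro a ha
        rw [Finset.mem_insert, Finset.mem_singleton] at ha ⊢
        rcases ha with rfl | rfl
        · right; rfl
        · left; exact h2 j
      · omega
      · omega
    · push Not at h2
      obtain ⟨a, ha⟩ := h2
      by_cases h3 : X (X (X a)) = a
      · have hr5 : r ≠ 3 := by
          intro h
          subst h
          have hp1 : Function.IsPeriodicPt X 3 a := h3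
          have hp2 : Function.IsPeriodicPt X (orderOf X) a := by
            change (X : Fin n → Fin n)^[orderOf X] a = a
            rw [← Perm.coe_pow, pow_orderOf_eq_one]
            rfl
          have hg : Nat.gcd 3 (orderOf X) = 1 := (Nat.coprime_primes Nat.prime_three hx).2 (Ne.symm hxs)
          have hp3 := hp1.gcd hp2
          rw [hg] at hp3
          exact hfix a hp3
        have hr4 : r ≠ 4 := by
          rintro rfl
          revert hs
          decide
        have hc : ({a, X a, X (X a)} : Finset (Fin n)).card ≤ 3 := Finset.card_le_three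
        obtain ⟨k, -, hk, -, -⟩ := exists_two (n := n) (C := {a, X a, X (X a)}) (by omega)
        refine false_of_PC hs hr3 hPC {a, X a, X (X a)} ⟨a, by simp⟩ ?_ ?_ ?_ (j := k) hk (hfix k)
        · intro b hb
          simp only [Finset.mem_insert, Finset.mem_singleton] at hb ⊢
          rcases hb with rfl | rfl | rfl
          · right; left; rfl
          · right; right; rfl
          · left; exact h3
        · omega
        · omega
      · exact false_of_four hn hs hr3 hsn hFC (hfix a) ha h3
  by_cases h6 : n = 6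
  · subst h6
    have hr3' : r = 3 := by omega
    by_cases hN : x ∈ Cfsg.Agent.LFourA.AltPsiAut.NE
    · obtain ⟨σ, hσ⟩ := Cfsg.Agent.LFourA.AltPsiAut.exists_perm hN
      refine key σ ?_
      ext1 a
      apply Subtype.ext
      rw [hσ, cS_apply]
    · exact exotic hr3' hx hN hFC
  · obtain ⟨X, hX⟩ := (Cfsg.Agent.S2119.result n (by omega) h6).2 x
    exact key X hX.symm

end Cfsg.Agent.H120.Pi.Alt
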