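import Cfsg.Agent.H809.PiSpor.Fus
import Cfsg.Agent.S1156
import Cfsg.Agent.S1158
import Cfsg.Agent.S1159

/-!
# S4324: the fused generators in the Ree groups (helper120)

`fus_ree` : `fus 1 y ≤ 6` for `y` of prime order `> 3` in a Ree group `²G₂(q)`.
-/

set_option autoImplicit false
set_option linter.unusedVariables false

namespace Cfsg.Agent.H120.Pi

open Subgroup Cfsg Cfsg.Agent.H216.Pi Cfsg.Agent.H809.PiSpor

section Gen

variable {G : Type*} [Group G]

theorem mem_zpowers_iff_of_cyclic {C : Type*} [Group C] [Finite C] (hC : IsCyclic C) (x z : C)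
    (h : z ^ orderOf x = 1) : z ∈ zpowers x := by
  classical
  have _ := Fintype.ofFinite C
  have h1 := IsCyclic.card_pow_eq_one_le (α := C) (orderOf_pos x)
  have h2 : (Finset.univ.filter fun a : C => a ∈ zpowers x) ⊆ Finset.univ.filter fun a : C => a ^ orderOf x = 1 := by
    intro a ha
    rw [Finset.mem_filter] at ha ⊢
    refine ⟨Finset.mem_univ _, ?_⟩
    obtain ⟨k, rfl⟩ := ha.2
    change (x ^ k) ^ orderOf x = 1
    rw [← zpow_natCast, ← zpow_mul, mul_comm, zpow_mul, zpow_natCast, pow_orderOf_eq_one, one_zpow]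
  have h3 : (Finset.univ.filter fun a : C => a ∈ zpowers x).card = orderOf x := by
    rw [← Nat.card_zpowers, Nat.card_eq_fintype_card, Fintype.card_subtype]
  have h4 := Finset.eq_of_subset_of_card_le h2 (by rw [h3]; exact h1)
  have h5 : z ∈ Finset.univ.filter fun a : C => a ^ orderOf x = 1 := by
    rw [Finset.mem_filter]; exact ⟨Finset.mem_univ _, h⟩
  rw [← h4, Finset.mem_filter] at h5
  exact h5.2

theorem zpowers_eq_of_cyclic [Finite G] {C : Subgroup G} (hC : IsCyclic C) {x y : G} (hx : x ∈ C)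
    (hy : y ∈ C) (h : orderOf x = orderOf y) : zpowers x = zpowers y := by
  have key : ∀ x y : G, x ∈ C → y ∈ C → orderOf x = orderOf y → x ∈ zpowers y := by
    intro x y hx hy h
    have h1 : (⟨x, hx⟩ : C) ∈ zpowers (⟨y, hy⟩ : C) := by
      apply mem_zpowers_iff_of_cyclic hC
      apply Subtype.ext
      rw [Subgroup.orderOf_mk, ← h]
      exact pow_orderOf_eq_one x
    obtain ⟨k, hk⟩ := h1
    exact ⟨k, congrArg Subtype.val hk⟩
  apply le_antisymm
  · rw [zpowers_le]; exact key x y hx hy h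
  · rw [zpowers_le]; exact key y x hy hx h.symm

/-- the number of fused generators of a subgroup of prime order divides the order of an element -/
theorem exists_dvd_orderOf [Finite G] {s : ℕ} (hs : s.Prime) {y : G} (hy : orderOf y = s) :
    ∃ g : G, ({z : G | z ∈ zpowers y ∧ ∃ k : G, k * y * k⁻¹ = z} : Set G).ncard ∣ orderOf g := by
  have hsF : Fact s.Prime := ⟨hs⟩
  have hc : Nat.card (zpowers y) = s := by rw [Nat.card_zpowers, hy]
  have hcyc : IsCyclic (zpowers y) := isCyclic_of_prime_card hc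
  have hcyc2 : IsCyclic (MulAut (zpowers y)) := by
    have e := IsCyclic.mulAutMulEquiv (zpowers y)
    rw [hc] at e
    exact (MulEquiv.isCyclic e).2 inferInstance
  set φ := (zpowers y).normalizerMonoidHom with hφ
  have hr : Nat.card φ.range = ({z : G | z ∈ zpowers y ∧ ∃ k : G, k * y * k⁻¹ = z} : Set G).ncard := by
    have h1 := Subgroup.index_ker φ
    have h2 := φ.ker.card_mul_index
    rw [h1, hφ, Subgroup.normalizerMonoidHom_ker, ← hφ] at h2
    have h3 : Nat.card ((centralizer ((zpowers y : Subgroup G) : Set G)).subgroupOf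
        (normalizer ((zpowers y : Subgroup G) : Set G))) = Nat.card (centralizer ({y} : Set G)) := by
      rw [Nat.card_congr (subgroupOfEquivOfLe (centralizer_le_normalizer _)).toEquiv,
        zpowers_eq_closure, centralizer_closure]
    rw [h3, card_normalizer y, mul_comm] at h2
    exact Nat.eq_of_mul_eq_mul_right Nat.card_pos h2
  have hcr : IsCyclic φ.range := inferInstance
  obtain ⟨a, ha⟩ := IsCyclic.exists_ofOrder_eq_natCard (α := φ.range)
  obtain ⟨g, hg⟩ := a.2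
  refine ⟨(g : G), ?_⟩
  rw [← hr, ← ha, ← Subgroup.orderOf_coe, ← hg, Subgroup.orderOf_coe]
  exact orderOf_map_dvd φ g

/-- the number of fused generators and a torus -/
theorem ncard_dvd_of_tor [Finite G] {y : G} (hy1 : y ≠ 1) {A : Subgroup G} (hA : IsCyclic A) (hyA : y ∈ A) {k c : ℕ}
    (hk : Nat.card A = k) (hN : Nat.card (normalizer (A : Set G)) = k * c)
    (hall : ∀ A₀ ≤ A, A₀ ≠ ⊥ → normalizer (A₀ : Set G) = normalizer (A : Set G)) :
    ({z : G | z ∈ zpowers y ∧ ∃ k : G, k * y * k⁻¹ = z} : Set G).ncard ∣ c := by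
  have h1 := card_normalizer y
  rw [hall (zpowers y) (by rw [zpowers_le]; exact hyA) (by rwa [Ne, zpowers_eq_bot]), hN] at h1
  have h2 : A ≤ centralizer ({y} : Set G) := by
    intro a ha
    rw [mem_centralizer_singleton_iff]
    have h3 : (⟨a, ha⟩ * ⟨y, hyA⟩ : A) = ⟨y, hyA⟩ * ⟨a, ha⟩ := by
      obtain ⟨g, hg⟩ := hA.exists_generator
      obtain ⟨i, hi⟩ := hg ⟨a, ha⟩
      obtain ⟨j, hj⟩ := hg ⟨y, hyA⟩
      simp only at hi hj
      rw [← hi, ← hj, ← zpow_add, ← zpow_add, add_comm]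
    exact congrArg Subtype.val h3
  obtain ⟨d, hd⟩ := Subgroup.card_dvd_of_le h2
  rw [hk] at hd
  rw [hd] at h1
  have hk0 : 0 < k := by rw [← hk]; exact Nat.card_pos
  refine ⟨d, ?_⟩
  apply Nat.eq_of_mul_eq_mul_left hk0
  rw [h1]
  ring

end Gen

section Ree

theorem ncard_ree {K : Type*} [Field K] [Fintype K] {m : ℕ} (hm : 1 ≤ m) (hK : Fintype.card K = 3 ^ (2 * m + 1))
    {s : ℕ} (hs : s.Prime) (hs3 : 3 < s) {y : ↥(Cfsg.Lie.twistedG2 K (3 ^ m))} (hy : orderOf y = s) :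
    ({z | z ∈ zpowers y ∧ ∃ k, k * y * k⁻¹ = z} : Set ↥(Cfsg.Lie.twistedG2 K (3 ^ m))).ncard ≤ 6 := by
  have hft : Fact s.Prime := ⟨hs⟩
  set f := ({z | z ∈ zpowers y ∧ ∃ k, k * y * k⁻¹ = z} : Set ↥(Cfsg.Lie.twistedG2 K (3 ^ m))).ncard with hf
  have hl := (Cfsg.Agent.S1159.result hm hK s).1 ⟨y, hy⟩
  have hy1 : y ≠ 1 := by
    rintro rfl
    rw [orderOf_one] at hy
    omega
  have hq8 : 3 ^ (2 * m + 1) % 8 = 3 := by
    have h1 : 3 ^ (2 * m + 1) = 9 ^ m * 3 := by rw [pow_succ, pow_mul]; norm_num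
    rw [h1, Nat.mul_mod, Nat.pow_mod]
    norm_num
  have hr2 : 3 ^ (m + 1) % 2 = 1 := by
    rw [Nat.pow_mod]
    norm_num
  have hrq : 3 ^ (m + 1) ≤ 3 ^ (2 * m + 1) := Nat.pow_le_pow_right (by norm_num) (by omega)
  -- `4` does not divide `f`
  have h4 : ¬ 4 ∣ f := by
    intro h
    obtain ⟨g, hg⟩ := exists_dvd_orderOf hs hy
    have h1 : 4 ∣ orderOf g := h.trans hg
    have h2 := (Cfsg.Agent.S1159.result hm hK (orderOf g)).1 ⟨g, rfl⟩
    rcases h2 with h2 | h2 | h2 | h2 | h2 | h2 <;> have h3 := h1.trans h2 <;> omega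
  have key : ∀ k n c : ℕ, (k, n) ∈ ({((3 ^ (2 * m + 1) - 1) / 2, 2 * (3 ^ (2 * m + 1) - 1)), ((3 ^ (2 * m + 1) + 1) / 4, 6 * (3 ^ (2 * m + 1) + 1)),
        (3 ^ (2 * m + 1) - 3 ^ (m + 1) + 1, 6 * (3 ^ (2 * m + 1) - 3 ^ (m + 1) + 1)),
        (3 ^ (2 * m + 1) + 3 ^ (m + 1) + 1, 6 * (3 ^ (2 * m + 1) + 3 ^ (m + 1) + 1))} : Set (ℕ × ℕ)) →
      s ∣ k → n = k * c → f ∣ c := by
    intro k n c hkn htk hn
    obtain ⟨A, hcyc, hA, hN, hall⟩ := Cfsg.Agent.S1158.result hm hK (k, n) hkn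
    have hA : Nat.card A = k := hA
    have hN : Nat.card (normalizer (A : Set ↥(Cfsg.Lie.twistedG2 K (3 ^ m)))) = n := hN
    obtain ⟨a, ha⟩ := exists_prime_orderOf_dvd_card' (G := A) s (by rw [hA]; exact htk)
    have ha' : orderOf (a : ↥(Cfsg.Lie.twistedG2 K (3 ^ m))) = s := by rw [Subgroup.orderOf_coe, ha]
    -- conjugate
    obtain ⟨P, hP⟩ := (show IsPGroup s (zpowers y) from IsPGroup.of_card (n := 1) (by
      rw [Nat.card_zpowers, hy, pow_one])).exists_le_sylow
    obtain ⟨R, hR⟩ := (show IsPGroup s (zpowers (a : ↥(Cfsg.Lie.twistedG2 K (3 ^ m)))) from IsPGroup.of_card (n := 1) (by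
      rw [Nat.card_zpowers, ha', pow_one])).exists_le_sylow
    obtain ⟨g, hg⟩ := MulAction.exists_smul_eq (↥(Cfsg.Lie.twistedG2 K (3 ^ m))) R P
    have h1 : g * a * g⁻¹ ∈ (P : Subgroup ↥(Cfsg.Lie.twistedG2 K (3 ^ m))) := by
      rw [← hg]
      exact ⟨a, hR (mem_zpowers _), rfl⟩
    have h2 : orderOf (g * a * g⁻¹) = orderOf y := by
      rw [hy, ← ha']
      exact (MulAut.conj g).orderOf_eq (a : ↥(Cfsg.Lie.twistedG2 K (3 ^ m)))
    have h3 := zpowers_eq_of_cyclic (Cfsg.Agent.S1156.result hm hK hs3 P) h1 (hP (mem_zpowers y)) h2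
    -- `g⁻¹ y g` lies in `A`
    have h5 : y ∈ zpowers (g * a * g⁻¹) := by rw [h3]; exact mem_zpowers y
    have h6 : g⁻¹ * y * g ∈ A := by
      obtain ⟨i, hi⟩ := h5
      have hi' : (g * a * g⁻¹) ^ i = y := hi
      rw [← hi', conj_zpow]
      have h7 : g⁻¹ * (g * (a : ↥(Cfsg.Lie.twistedG2 K (3 ^ m))) ^ i * g⁻¹) * g = (a : ↥(Cfsg.Lie.twistedG2 K (3 ^ m))) ^ i := by group
      rw [h7]
      exact zpow_mem a.2 i
    have h7 := ncard_dvd_of_tor (y := g⁻¹ * y * g) (by
      intro h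
      apply hy1
      have h8 : y = g * (g⁻¹ * y * g) * g⁻¹ := by group
      rw [h8, h]
      group) hcyc h6 hA (by rw [hN, hn]) hall
    -- conjugate elements have the same number of fused generators
    have h8 : ({z | z ∈ zpowers (g⁻¹ * y * g) ∧ ∃ k, k * (g⁻¹ * y * g) * k⁻¹ = z} : Set ↥(Cfsg.Lie.twistedG2 K (3 ^ m))) =
        (MulAut.conj g⁻¹) '' ({z | z ∈ zpowers y ∧ ∃ k, k * y * k⁻¹ = z} : Set ↥(Cfsg.Lie.twistedG2 K (3 ^ m))) := by
      ext z
      constructor
      · rintro ⟨⟨i, hi⟩, k, hk⟩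
        refine ⟨g * z * g⁻¹, ⟨⟨i, ?_⟩, g * k * g⁻¹, ?_⟩, ?_⟩
        · have hi' : (g⁻¹ * y * g) ^ i = z := hi
          show y ^ i = g * z * g⁻¹
          rw [← hi']
          have e1 : (g⁻¹ * y * g) ^ i = g⁻¹ * y ^ i * g := by
            have := conj_zpow (i := i) (a := g⁻¹) (b := y)
            rwa [inv_inv] at this
          rw [e1]
          group
        · rw [← hk]
          group
        · rw [MulAut.conj_apply]
          group
      · rintro ⟨w, ⟨⟨i, hi⟩, k, hk⟩, rfl⟩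
        refine ⟨⟨i, ?_⟩, g⁻¹ * k * g, ?_⟩
        · have hi' : y ^ i = w := hi
          show (g⁻¹ * y * g) ^ i = (MulAut.conj g⁻¹) w
          have e1 : (g⁻¹ * y * g) ^ i = g⁻¹ * y ^ i * g := by
            have := conj_zpow (i := i) (a := g⁻¹) (b := y)
            rwa [inv_inv] at this
          rw [e1, hi', MulAut.conj_apply, inv_inv]
        · rw [MulAut.conj_apply, inv_inv, ← hk]
          group
    rw [h8, Set.ncard_image_of_injective _ (MulAut.conj g⁻¹).injective] at h7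
    exact h7
  have hodd : ¬ s ∣ 2 := fun h => by have := Nat.le_of_dvd (by norm_num) h; omega
  have h24 : f ∣ 24 := by
    rcases hl with hl | hl | hl | hl | hl | hl
    · exfalso
      rcases hs.dvd_mul.1 (show s ∣ 2 * 3 by simpa using hl) with h | h
      · exact hodd h
      · have := Nat.le_of_dvd (by norm_num) h; omega
    · exfalso
      have := Nat.le_of_dvd (by norm_num) (hs.dvd_of_dvd_pow (n := 2) (m := 3) (by simpa using hl)); omega
    · refine (key _ _ 4 (Or.inl rfl) ?_ (by omega)).trans (by norm_num)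
      have h1 : 3 ^ (2 * m + 1) - 1 = 2 * ((3 ^ (2 * m + 1) - 1) / 2) := by omega
      rw [h1] at hl
      exact (hs.dvd_mul.1 hl).resolve_left hodd
    · refine key _ _ 24 (Or.inr (Or.inl rfl)) ?_ (by omega)
      have h1 : (3 ^ (2 * m + 1) + 1) / 2 = 2 * ((3 ^ (2 * m + 1) + 1) / 4) := by omega
      rw [h1] at hl
      exact (hs.dvd_mul.1 hl).resolve_left hodd
    · exact (key _ _ 6 (Or.inr (Or.inr (Or.inl rfl))) hl (mul_comm _ _)).trans (by norm_num)
    · exact (key _ _ 6 (Or.inr (Or.inr (Or.inr rfl))) hl (mul_comm _ _)).trans (by norm_num)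
  have hle : f ≤ 24 := Nat.le_of_dvd (by norm_num) h24
  interval_cases f <;> omega

theorem fus_ree {K : Type} [Group K] (hG : Lie.IsoRee K) {s : ℕ} (hs : s.Prime) (hs3 : 3 < s) {y : K}
    (hy : orderOf y = s) : fus 1 y ≤ 6 := by
  obtain ⟨F, _, _, m, hm, hF, ⟨e⟩⟩ := hG
  have hfin : Finite K := Finite.of_injective e e.injective
  rw [fus_eq_ncard (one_mem _) y]
  have h1 := ncard_ree hm hF hs hs3 (y := e y) (by rw [MulEquiv.orderOf_eq, hy])
  have h2 : ({z | z ∈ zpowers (e y) ∧ ∃ k, k * e y * k⁻¹ = z} : Set ↥(Cfsg.Lie.twistedG2 F (3 ^ m))) =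
      e '' ({z | z ∈ zpowers y ∧ ∃ k, k * y * k⁻¹ = z} : Set K) := by
    ext z
    constructor
    · rintro ⟨⟨i, hi⟩, k, hk⟩
      refine ⟨e.symm z, ⟨⟨i, ?_⟩, e.symm k, ?_⟩, e.apply_symm_apply z⟩
      · apply e.injective
        rw [e.apply_symm_apply]
        show e (y ^ i) = z
        rw [map_zpow]
        exact hi
      · apply e.injective
        rw [map_mul, map_mul, map_inv, e.apply_symm_apply, e.apply_symm_apply]
        exact hk
    · rintro ⟨w, ⟨⟨i, hi⟩, k, hk⟩, rfl⟩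
      refine ⟨⟨i, ?_⟩, e k, ?_⟩
      · show (e y) ^ i = e w
        rw [← map_zpow]
        exact congrArg e hi
      · rw [← map_inv, ← map_mul, ← map_mul, hk]
  rw [h2, Set.ncard_image_of_injective _ e.injective] at h1
  exact h1

end Ree

end Cfsg.Agent.H120.Pi
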